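import Cfsg.Agent.OddSixteen.Statements
import Cfsg.Agent.OddOrder.PF13.Centralizer

/-!
For a maximal subgroup of type III or IV, data of type P with `C_U(M_F) = 1` (the partner glue for
Peterfalvi 13.15).
-/

set_option autoImplicit false

namespace CfsgLib.OddOrder.PF12

open Cfsg CfsgLib CfsgLib.OddSixteen

universe u

variable {G : Type u} [Group G] [Finite G]

/-- Data of type P built on a standard factorisation. -/
theorem exists_typeP_data (E : OddSixteen.Earlier.{u}) (hG : IsMinSimpleOddOrder G) {M K U : Subgroup G}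
    (hM : IsCoatom M) (hKU : IsSigmaDecomposition M K U) (hK : K ≠ ⊥) :
    ∃ D : Subgroup G, IsTypePWith M K D (sigmaCore M ⊓ Subgroup.centralizer (K : Set G)) := by
  by_cases hH : fittingHallOf M = sigmaCore M
  · exact ⟨U, typeP_data_U E hG hM hKU hK hH⟩
  · obtain ⟨D, -, -, -, -, hP⟩ := exists_complement E hG hM hKU hK hH
    exact ⟨D, hP⟩

/-- Data for type III or IV with trivial `C_U(M_F)`. -/
theorem exists_free_data (E : OddSixteen.Earlier.{u}) (hV : PF13.NoTypeV.{u})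
    (h3 : PF13.TypeThree.{u}) (hG : IsMinSimpleOddOrder G) {L : Subgroup G} (hL : IsCoatom L)
    (h34 : IsOfTypeIII L ∨ IsOfTypeIV L) :
    ∃ W₁ D W₂ : Subgroup G, IsTypePWith L W₁ D W₂ ∧
      D ⊓ Subgroup.centralizer (fittingHallOf L : Set G) = ⊥ := by
  obtain ⟨K, U, hKU⟩ := exists_decomp E.p1351 E.p1352 hG hL
  have hK : K ≠ ⊥ := ((typeIII_IV_iff E hG hL hKU).mp h34).1
  obtain ⟨hKscyc, hKs1, -⟩ := E.p1364 hG L hL K U hKU hK
  obtain ⟨T, ⟨hT, hKT, hTH⟩, -⟩ := E.p1366 hG L hL K U hKU hK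
  obtain ⟨V, hVd⟩ := (E.p1352 hG T hT _ hKscyc hTH).1
  obtain ⟨hor, -⟩ := E.p1369 hG L hL K U hKU hK T hT hKT hTH
  obtain ⟨D, hD⟩ := exists_typeP_data E hG hL hKU hK
  obtain ⟨D', hD'⟩ := exists_typeP_data E hG hT hVd hKs1
  rw [show sigmaCore T ⊓ Subgroup.centralizer
    ((sigmaCore L ⊓ Subgroup.centralizer (K : Set G) : Subgroup G) : Set G) = K from hKT.symm] at hD'
  refine ⟨K, D, _, hD, ?_⟩
  refine PF13.p1547_of_sections hV h3 hG L T _ _ D D' hL hT hD hD'
    (E.p1368 hG L hL K U hKU hK T hT hKT hTH).1 ?_ (type_of_K_ne_bot E hG hL hKU hK)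
    (type_of_K_ne_bot E hG hT hVd hKs1)
  rcases hor with h | h
  · exact Or.inl (typeII_of_ne_bot E hG hL hKU hK h)
  · exact Or.inr (typeII_of_ne_bot E hG hT hVd hKs1 (h V hVd))

end CfsgLib.OddOrder.PF12
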